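import Cfsg.Agent.Lib.Helper1.Co1Mu.P3.P0
set_option autoImplicit false
set_option maxRecDepth 1000000

/-! # The structural check of the data -/

namespace Cfsg.Agent.Lib.Helper1.Co1Mu.P3
open Cfsg.Agent.Lib.Helper1.StemSA Cfsg.Agent.Lib.Helper4.Sparse

theorem tree_all (j : ℕ) (h1 : 1 ≤ j) (h2 : j < 98280) : chkTreeAt 5 piT parT 3 j = true := by
  exact treeP0 j (by omega) h2

theorem rels_lt : ∀ w ∈ rels, (∀ i ∈ w.1, i < 5) ∧ ∀ i ∈ w.2, i < 5 := by decide +kernel

/-- the structural check, from the bound on the tables -/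
theorem chkStruct_of (hpi : ∀ i < 5, ∀ j < 98280, piT i j < 98280) : D.chkStruct = true :=
  chkStruct_mkD 5 98280 piT parT 3 rels hpi tree_all rels_lt

theorem D_ords : ∀ i < D.k, D.ords.getD i 0 = 0 := mkD_ords 5 98280 piT parT 3 rels

theorem D_k : D.k = 5 := rfl
theorem D_m : D.m = 98280 := rfl
theorem D_pi : D.pi = piT := rfl
theorem D_rels : D.rels = rels := rfl

end Cfsg.Agent.Lib.Helper1.Co1Mu.P3
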