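import Cfsg.Agent.Lib.Helper1.Co1Mu.P3.All
import Cfsg.Agent.Lib.Helper1.Co1Mu.P3.VBa
set_option autoImplicit false

/-! # The bound on the values of the unknowns -/

namespace Cfsg.Agent.Lib.Helper1.Co1Mu.P3
open Cfsg.Agent.Lib.Helper1.StemSA Cfsg.Agent.Lib.Helper4.Sparse

universe u

theorem vb (hS : D.chkStruct = true) : ValsBoundN.{u} D 3 0 5 :=
  vb_of hS chkU_all

end Cfsg.Agent.Lib.Helper1.Co1Mu.P3
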