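import Cfsg.Agent.Lib.Helper1.Co1Mu.P3.K0
import Cfsg.Agent.Lib.Helper1.Co1Mu.P3.Cert
set_option autoImplicit false
set_option maxRecDepth 1000000
set_option Elab.async false
namespace Cfsg.Agent.Lib.Helper1.Co1Mu.P3
open Cfsg.Agent.Lib.Helper4.Sparse
theorem ck_24 : chkURange D C 98304 4096 = true := by decide +kernel
theorem ck_25 : chkURange D C 102400 4096 = true := by decide +kernel
theorem ck_26 : chkURange D C 106496 4096 = true := by decide +kernel
theorem ck_27 : chkURange D C 110592 4096 = true := by decide +kernel
theorem ck_28 : chkURange D C 114688 4096 = true := by decide +kernel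
theorem ck_29 : chkURange D C 118784 4096 = true := by decide +kernel
theorem ck_30 : chkURange D C 122880 4096 = true := by decide +kernel
theorem ck_31 : chkURange D C 126976 4096 = true := by decide +kernel
theorem ck_32 : chkURange D C 131072 4096 = true := by decide +kernel
theorem ck_33 : chkURange D C 135168 4096 = true := by decide +kernel
theorem ck_34 : chkURange D C 139264 4096 = true := by decide +kernel
theorem ck_35 : chkURange D C 143360 4096 = true := by decide +kernel
theorem chkU_2 (b : ℕ) (h1 : 98304 ≤ b) (h2 : b < 147456) : chkU D C b = true := by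
  rcases Nat.lt_or_ge b 102400 with g0 | g0
  · exact chkURange_spec D C 98304 4096 ck_24 b (by omega) (by omega)
  rcases Nat.lt_or_ge b 106496 with g1 | g1
  · exact chkURange_spec D C 102400 4096 ck_25 b (by omega) (by omega)
  rcases Nat.lt_or_ge b 110592 with g2 | g2
  · exact chkURange_spec D C 106496 4096 ck_26 b (by omega) (by omega)
  rcases Nat.lt_or_ge b 114688 with g3 | g3
  · exact chkURange_spec D C 110592 4096 ck_27 b (by omega) (by omega)
  rcases Nat.lt_or_ge b 118784 with g4 | g4
  · exact chkURange_spec D C 114688 4096 ck_28 b (by omega) (by omega)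
  rcases Nat.lt_or_ge b 122880 with g5 | g5
  · exact chkURange_spec D C 118784 4096 ck_29 b (by omega) (by omega)
  rcases Nat.lt_or_ge b 126976 with g6 | g6
  · exact chkURange_spec D C 122880 4096 ck_30 b (by omega) (by omega)
  rcases Nat.lt_or_ge b 131072 with g7 | g7
  · exact chkURange_spec D C 126976 4096 ck_31 b (by omega) (by omega)
  rcases Nat.lt_or_ge b 135168 with g8 | g8
  · exact chkURange_spec D C 131072 4096 ck_32 b (by omega) (by omega)
  rcases Nat.lt_or_ge b 139264 with g9 | g9
  · exact chkURange_spec D C 135168 4096 ck_33 b (by omega) (by omega)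
  rcases Nat.lt_or_ge b 143360 with g10 | g10
  · exact chkURange_spec D C 139264 4096 ck_34 b (by omega) (by omega)
  exact chkURange_spec D C 143360 4096 ck_35 b (by omega) (by omega)
end Cfsg.Agent.Lib.Helper1.Co1Mu.P3
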