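import Cfsg.Agent.Lib.Helper1.Co1Mu.P3.K8
import Cfsg.Agent.Lib.Helper1.Co1Mu.P3.Cert
set_option autoImplicit false
set_option maxRecDepth 1000000
set_option Elab.async false
namespace Cfsg.Agent.Lib.Helper1.Co1Mu.P3
open Cfsg.Agent.Lib.Helper4.Sparse
theorem ck_120 : chkURange D C 491520 319 = true := by decide +kernel
theorem chkU_10 (b : ℕ) (h1 : 491520 ≤ b) (h2 : b < 491839) : chkU D C b = true := by
  exact chkURange_spec D C 491520 319 ck_120 b (by omega) (by omega)
end Cfsg.Agent.Lib.Helper1.Co1Mu.P3
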